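import Cfsg.Agent.H798.Oc.Ind
import Cfsg.Agent.KFacts.RgdField

/-!
# The sign of the torus on a root group (helper798)

* `qs F : Fˣ →* ℤˣ`, `qs_eq_one_iff` : the sign of the multiplication by `c` is `1` iff `c` is a square;
* `sv_coord` : `sv (X r) t = qs (χ r t)`.
-/

set_option autoImplicit false
set_option linter.unusedSectionVars false
set_option maxHeartbeats 400000

namespace Cfsg.Agent.H798.Oc.Scal

open Cfsg.Agent.H798.Oc.Sign Cfsg.Agent.H798.Oc.Ind Cfsg.Agent.KFacts.RgdField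

variable {F : Type*} [Field F] [Finite F]

/-- the sign of the multiplications -/
noncomputable def qs (F : Type*) [Field F] [Finite F] : Fˣ →* ℤˣ := sgn.comp (MulAction.toPermHom Fˣ F)

theorem qs_gen (hodd : Odd (Nat.card F)) {d : Fˣ} (hd : ∀ x : Fˣ, x ∈ Subgroup.zpowers d) : qs F d = -1 := by
  show sgn (MulAction.toPermHom Fˣ F d) = -1
  refine sgn_cycle hodd Finite.one_lt_card _ 0 (smul_zero d) fun x y hx hy => ?_
  have h1 : Units.mk0 y hy * (Units.mk0 x hx)⁻¹ ∈ Submonoid.powers d := mem_powers_iff_mem_zpowers.2 (hd _)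
  obtain ⟨n, hn⟩ := h1
  have hn : d ^ n = Units.mk0 y hy * (Units.mk0 x hx)⁻¹ := hn
  refine ⟨n, ?_⟩
  rw [← map_pow]
  show (d ^ n) • x = y
  rw [hn, Units.smul_def, Units.val_mul, Units.val_mk0, smul_eq_mul, mul_assoc, Units.val_inv_eq_inv_val,
    Units.val_mk0, inv_mul_cancel₀ hx, mul_one]

theorem qs_eq_one_iff (hodd : Odd (Nat.card F)) (c : Fˣ) : qs F c = 1 ↔ IsSquare (c : F) := by
  constructor
  · intro h
    obtain ⟨d, hd⟩ := IsCyclic.exists_generator (α := Fˣ)
    obtain ⟨k, hk⟩ := hd c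
    have hk : d ^ k = c := hk
    rw [← hk, map_zpow, qs_gen hodd hd] at h
    rcases Int.even_or_odd k with h1 | h1
    · obtain ⟨m, rfl⟩ := h1
      rw [← hk, zpow_add, Units.val_mul]
      exact ⟨_, rfl⟩
    · exfalso
      obtain ⟨m, rfl⟩ := h1
      rw [zpow_add, zpow_mul, zpow_one] at h
      have h2 : ((-1 : ℤˣ)) ^ (2 : ℤ) = 1 := rfl
      rw [h2, one_zpow, one_mul] at h
      exact absurd h (by decide)
  · rintro ⟨e, he⟩
    have he0 : e ≠ 0 := by
      rintro rfl
      rw [mul_zero] at he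
      exact c.ne_zero he
    have h1 : c = Units.mk0 e he0 * Units.mk0 e he0 := Units.ext (by rw [he]; rfl)
    rw [h1, map_mul]
    exact Int.units_mul_self _

theorem exists_nonsquare (hodd : Odd (Nat.card F)) : ∃ g : F, ¬ IsSquare g := by
  obtain ⟨d, hd⟩ := IsCyclic.exists_generator (α := Fˣ)
  refine ⟨d, fun h => ?_⟩
  rw [← qs_eq_one_iff hodd, qs_gen hodd hd] at h
  exact absurd h (by decide)

variable {G : Type*} [Group G] [Finite G]

/-- the sign of an element acting as a scalar -/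
theorem sv_scal {V : Subgroup G} {z : F → G} (z_inj : Function.Injective z) (hz : ∀ y, y ∈ V ↔ ∃ a, z a = y)
    {c : Fˣ} {t : G} (h : ∀ a, t * z a * t⁻¹ = z ((c : F) * a)) : sv V t = qs F c := by
  have ht : t ∈ Subgroup.normalizer (V : Set G) := by
    have hc : ((c⁻¹ : Fˣ) : F) = (c : F)⁻¹ := Units.val_inv_eq_inv_val c
    rw [Subgroup.mem_normalizer_iff]
    intro y
    constructor
    · intro hy
      obtain ⟨a, rfl⟩ := (hz y).1 hy
      exact (hz _).2 ⟨_, (h a).symm⟩
    · intro hy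
      obtain ⟨a, ha⟩ := (hz _).1 hy
      have h2 := h ((c : F)⁻¹ * a)
      rw [mul_inv_cancel_left₀ c.ne_zero, ha] at h2
      have h3 : z ((c : F)⁻¹ * a) = y := mul_left_cancel (mul_right_cancel h2)
      exact (hz _).2 ⟨_, h3⟩
  rw [sv_eq ht, sg_apply]
  refine (sgn_equiv _ _ (Equiv.ofBijective (fun a : F => (⟨z a, (hz _).2 ⟨a, rfl⟩⟩ : V)) ⟨?_, ?_⟩) fun a => ?_).symm
  · intro a b hab
    exact z_inj (congrArg Subtype.val hab)
  · rintro ⟨y, hy⟩
    obtain ⟨a, ha⟩ := (hz y).1 hy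
    exact ⟨a, Subtype.ext ha⟩
  · apply Subtype.ext
    show z ((c : F) * a) = t * z a * t⁻¹
    exact (h a).symm

theorem sv_coord {T P : Subgroup G} {x : F → G} {χ : G → F} (C : Coord T P x χ) {t : G} (ht : t ∈ T) (h0 : χ t ≠ 0) :
    sv P t = qs F (Units.mk0 _ h0) :=
  sv_scal C.inj C.mem fun a => C.act t ht a

theorem chi_ne_zero {T P : Subgroup G} {x : F → G} {χ : G → F} (C : Coord T P x χ) {t : G} (ht : t ∈ T) : χ t ≠ 0 := by
  intro h0
  have h1 := C.act t ht 1
  rw [h0, zero_mul, C.zero] at h1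
  have h2 : x 1 = 1 := by
    have : t * x 1 = t := by
      have := congrArg (· * t) h1
      simpa using this
    exact mul_eq_left.1 this
  exact C.ne_one one_ne_zero h2

/-- **the sign on a root group** -/
theorem sv_eq_one_iff (hodd : Odd (Nat.card F)) {T P : Subgroup G} {x : F → G} {χ : G → F} (C : Coord T P x χ) {t : G}
    (ht : t ∈ T) : sv P t = 1 ↔ IsSquare (χ t) := by
  rw [sv_coord C ht (chi_ne_zero C ht), qs_eq_one_iff hodd, Units.val_mk0]

theorem units_eq_iff {u v : ℤˣ} (h : u = 1 ↔ v = 1) : u = v := by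
  rcases Int.units_eq_one_or u with h1 | h1 <;> rcases Int.units_eq_one_or v with h2 | h2
  · rw [h1, h2]
  · exact absurd (h.1 h1) (by rw [h2]; decide)
  · exact absurd (h.2 h2) (by rw [h1]; decide)
  · rw [h1, h2]

end Cfsg.Agent.H798.Oc.Scal
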