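import Cfsg.Agent.H798.Oc.Main
import Cfsg.Agent.H798.Oc.Scal
import Cfsg.Agent.H239.OCHigh
import Cfsg.Agent.CpAut.RgdUntw
import Cfsg.Agent.KFacts.RgdFilt
import Cfsg.Agent.H993.OC.Row

/-!
# S4891, own characteristic: the rows of `G₂(q)`, `E₆(q)`, `E₇(q)`, `E₈(q)`, `q` odd (helper798)

The character is the odd constituent of the induced sign character of the normalizer of the highest root group.
-/

set_option autoImplicit false
set_option linter.unusedSectionVars false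
set_option maxHeartbeats 400000

namespace Cfsg.Agent.H798.Oc.Untw

open CoxeterSystem Cfsg.Agent.ChevalleyStructure.CoxeterGeom Cfsg.Agent.Tits.Roots Cfsg.Agent.Tits.Core
  Cfsg.Agent.Nodes.Reps Cfsg.Agent.Nodes.BNOf Cfsg.Agent.Nodes.OppDec Cfsg.Agent.Nodes.RGDChev
  Cfsg.Agent.KFacts.RgdChevCoord Cfsg.Agent.Nodes.Bruhat Cfsg.Agent.Nodes.StabComb
open Cfsg.Lie Cfsg.Agent.ChevalleyStructure Cfsg.Agent.ChevalleyStructure.Elts
  Cfsg.Agent.ChevalleyStructure.NPerm Cfsg.Agent.ChevalleyStructure.CoxeterGeomTypes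
open Cfsg.Agent.ChevalleyStructure.RootVec (rt)
open Cfsg.Agent.H798.Oc.Ind Cfsg.Agent.H798.Oc.Main Cfsg.Agent.H798.Oc.Scal Cfsg.Agent.H239.OCTab
open Cfsg.Agent.H993.OC Cfsg.Agent.H145.BR
open Cfsg (IsIrrCharacter)

/-- some reflection moves `r₀` to a root `≠ ± r₀` -/
def chkMove (D : ChevalleyDatum) (l r₀ : ℕ) : Bool :=
  (List.range l).any fun j => ((List.range l).any fun i => rt D (D.reflectRoot j r₀) i != rt D r₀ i) &&
    ((List.range l).any fun i => rt D (D.reflectRoot j r₀) i != - rt D r₀ i)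

theorem move_G2 : chkMove chevG2 2 11 = true := by decide +kernel
theorem move_E6 : chkMove chevE6 6 71 = true := by decide +kernel
theorem move_E7 : chkMove chevE7 7 125 = true := by decide +kernel
theorem move_E8 : chkMove chevE8 8 239 = true := by decide +kernel

variable {D : ChevalleyDatum} {l : ℕ} {M : CoxeterMatrix (Fin l)}

theorem odd_card {K : Type} [Field K] [Finite K] {p : ℕ} [Fact p.Prime] [CharP K p] (hp2 : p ≠ 2) :
    Odd (Nat.card K) := by
  have : Fintype K := Fintype.ofFinite K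
  obtain ⟨n, hpr, hn⟩ := FiniteField.card K p
  rw [Nat.card_eq_fintype_card, hn]
  exact (hpr.odd_of_ne_two hp2).pow

theorem move_spec (hp : IsType D l M) {W : Type*} [Group W] (cs : CoxeterSystem M W) {r₀ : ℕ} (h0 : r₀ < D.nroots)
    (h : chkMove D l r₀ = true) :
    ∃ w, rep cs hp.isCartan w (vec D l r₀) ≠ vec D l r₀ ∧ rep cs hp.isCartan w (vec D l r₀) ≠ -vec D l r₀ := by
  simp only [chkMove, Bool.and_eq_true, List.any_eq_true, List.mem_range, bne_iff_ne] at h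
  obtain ⟨j, hj, ⟨i, hi, h1⟩, i', hi', h2⟩ := h
  refine ⟨cs.simple ⟨j, hj⟩, ?_, ?_⟩
  · rw [rep_vec hp cs ⟨j, hj⟩ h0]
    intro e
    exact h1 (congrFun e ⟨i, hi⟩)
  · rw [rep_vec hp cs ⟨j, hj⟩ h0]
    intro e
    exact h2 (congrFun e ⟨i', hi'⟩)

/-- the integer valued form -/
theorem ocint_chev (hp : IsType D l M) (hσ : CpAut.RgdUntw.SymTwo M) {r₀ : ℕ} {L : List ℕ} (h1 : chk D l r₀ L = true)
    (h2 : chkHigh D l r₀ = true) (h3 : chkMove D l r₀ = true) (p : ℕ) [Fact p.Prime] (hp2 : p ≠ 2)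
    (K : Type) [Field K] [Finite K] [CharP K p] (Au : Subgroup (MulAut ↥(D.group K))) (hAu : IsPGroup p Au) :
    ∃ θ : ↥(D.group K) → ℂ, IsIrrCharacter ↥(D.group K) θ ∧ θ ≠ 1 ∧ (∃ d : ℕ, θ 1 = d ∧ ¬ p ∣ d) ∧
      (∀ g, ∃ k : ℤ, θ g = k) ∧ ∀ a ∈ Au, ∀ x, θ (a x) = θ x := by
  have hW : Finite M.Group := finite_W hp M.toCoxeterSystem
  have R := rgd (K := K) hp M.toCoxeterSystem p
  have hG := KFacts.RgdFilt.GG_eq_top (T := TT D K) (G1_eq_top (K := K) hp M.toCoxeterSystem)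
  have C := coords (K := K) hp M.toCoxeterSystem p
  obtain ⟨hx, hmax⟩ := high_root hp M.toCoxeterSystem h2
  obtain ⟨h0, -⟩ := high_spec h2
  have hodd : Odd (Nat.card K) := odd_card (p := p) hp2
  obtain ⟨u, i, hui⟩ := hx
  have hx : IsRoot M.toCoxeterSystem hp.isCartan (vec D l r₀) := ⟨u, i, hui⟩
  have hV : RGD.B M.toCoxeterSystem hp.isCartan (TT D K) (XX D l K) ≤
      Subgroup.normalizer (XX D l K (vec D l r₀) : Set ↥(D.group K)) := by
    refine le_trans ?_ (borel_le hp M.toCoxeterSystem h2 p)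
    exact sup_le_sup le_rfl (RGD.Sup_mono fun x hx => ⟨hx.1, hx.2, fun k hk => absurd (Set.mem_univ k) hk⟩)
  have hw₁ : rep M.toCoxeterSystem hp.isCartan u⁻¹ (vec D l r₀) = sr i := by
    rw [hui, ← rep_mul_apply, inv_mul_cancel, map_one, Module.End.one_apply]
  exact main_root R hG hp2 hσ hx hV hw₁ (fun w hw => by
    refine sep hp M.toCoxeterSystem h1 (K := K) (exists_nonsquare hodd) w fun t ht => ?_
    have hr := hx.act (h := hp.isCartan) w
    rw [← sv_eq_one_iff hodd (C.coord _ hr) ht, ← sv_eq_one_iff hodd (C.coord _ hx) ht, hw t ht])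
    (move_spec hp M.toCoxeterSystem h0 h3) Au hAu

theorem ocrow_chev (hp : IsType D l M) (hσ : CpAut.RgdUntw.SymTwo M) {r₀ : ℕ} {L : List ℕ} (h1 : chk D l r₀ L = true)
    (h2 : chkHigh D l r₀ = true) (h3 : chkMove D l r₀ = true) (p : ℕ) [Fact p.Prime] (hp2 : p ≠ 2)
    (K : Type) [Field K] [Finite K] [CharP K p] : OCRow p ↥(D.group K) := by
  intro Au hAu
  obtain ⟨θ, t1, t2, t3, t4, t5⟩ := ocint_chev hp hσ h1 h2 h3 p hp2 K Au hAu
  exact ⟨θ, t1, t2, t3, pRat_of_int t4, t5⟩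

section Rows

variable (p : ℕ) [Fact p.Prime] (hp2 : p ≠ 2) (K : Type) [Field K] [Finite K] [CharP K p]

include hp2

theorem ocrow_G2 : OCRow p ↥(chevG2.group K) :=
  ocrow_chev (D := chevG2) (l := 2) (M := CoxeterMatrix.G₂) (by simp [IsType, typeList]) CpAut.RgdUntw.symTwo_G2
    chk_G2 high_G2 move_G2 p hp2 K

theorem ocrow_E6 : OCRow p ↥(chevE6.group K) :=
  ocrow_chev (D := chevE6) (l := 6) (M := CoxeterMatrix.E₆) (by simp [IsType, typeList]) CpAut.RgdUntw.symTwo_E6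
    chk_E6 high_E6 move_E6 p hp2 K

theorem ocrow_E7 : OCRow p ↥(chevE7.group K) :=
  ocrow_chev (D := chevE7) (l := 7) (M := CoxeterMatrix.E₇) (by simp [IsType, typeList]) CpAut.RgdUntw.symTwo_E7
    chk_E7 high_E7 move_E7 p hp2 K

theorem ocrow_E8 : OCRow p ↥(chevE8.group K) :=
  ocrow_chev (D := chevE8) (l := 8) (M := CoxeterMatrix.E₈) (by simp [IsType, typeList]) CpAut.RgdUntw.symTwo_E8
    chk_E8 high_E8 move_E8 p hp2 K

end Rows

end Cfsg.Agent.H798.Oc.Untw
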