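import Cfsg.Agent.H798.Oc.Ind
import Cfsg.Agent.KFacts.RgdDiag
import Cfsg.Agent.KFacts.RgdAutFacts

/-!
# S4891, exceptional groups in odd defining characteristic: the abstract theorem (helper798)

`G` a finite group with a root group datum of characteristic `p` (odd), `V ≤ G` with `B ≤ N(V)`.

* `panel` : `P_i = B ∪ X_i n_i B`; `sq_T` : the sign of `t ∈ T` on `P_i / B` is its sign on `X_i`;
* `main` : the character `Ind_{N(V)} (sg V)` has an integer valued constituent of degree prime to `p` invariant under a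
  given `p`-group of automorphisms;
* `aut_sq`, `conj_of_odd` : automorphisms and root groups.
-/

set_option autoImplicit false
set_option linter.unusedSectionVars false
set_option maxHeartbeats 400000

namespace Cfsg.Agent.H798.Oc.Main

open Cfsg CoxeterSystem Cfsg.Agent.ChevalleyStructure.CoxeterGeom Cfsg.Agent.Tits.Roots Cfsg.Agent.Tits.Core
  Cfsg.Agent.Tits.RootComb Cfsg.Agent.Tits.Exchange Cfsg.Agent.Nodes.Comb Cfsg.Agent.Nodes.Reps Cfsg.Agent.Nodes.BNOf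
  Cfsg.Agent.Nodes.StabComb Cfsg.Agent.Nodes.Bruhat Cfsg.Agent.Nodes.OppDec Cfsg.Agent.Nodes.LeviDec
  Cfsg.Agent.KFacts.RgdAut Cfsg.Agent.KFacts.RgdDiag
open Cfsg.Agent.H798.Oc.Sign Cfsg.Agent.H798.Oc.Ind Cfsg.Agent.H798.Oc.Pair Cfsg.Agent.H150.Toral

variable {I W Y : Type*} [Fintype I] [DecidableEq I] [Group W] [Group Y] {M : CoxeterMatrix I}
  {cs : CoxeterSystem M W} {A : I → I → ℤ} {h : IsCartan M A} {p : ℕ} {T : Subgroup Y} {n : I → Y}
  {X : (I → ℤ) → Subgroup Y}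

theorem posNe_sub (i : I) : RGD.PosNe cs h i ⊆ RGD.Pos cs h := fun _ hx => ⟨hx.1, hx.2.1⟩

section Panel

variable (R : RGD cs h p T n X) [Finite W]

include R

/-- `B = X_i V_i T` -/
theorem mem_B_left (i : I) {x : Y} (hx : x ∈ RGD.B cs h T X) :
    ∃ u ∈ X (sr i), ∃ v ∈ RGD.Sup X (RGD.PosNe cs h i), ∃ t ∈ T, x = u * v * t := by
  obtain ⟨v, hv, u, hu, t, ht, e⟩ := R.mem_B' i hx
  refine ⟨u, hu, u⁻¹ * v * u, ?_, t, ht, by rw [e]; group⟩
  have h1 := R.X_le_normalizer_V i (inv_mem hu)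
  have h2 := (Subgroup.mem_normalizer_iff.1 h1 v).1 hv
  rwa [inv_inv] at h2

theorem VT_conj (i : I) {v t k : Y} (hk : Rp cs R.nsys (cs.simple i) k) (hv : v ∈ RGD.Sup X (RGD.PosNe cs h i))
    (ht : t ∈ T) : k⁻¹ * (v * t) * k ∈ RGD.B cs h T X := by
  have h1 : k⁻¹ * v * k ∈ RGD.Sup X (RGD.PosNe cs h i) := by
    obtain ⟨s, hs, rfl⟩ : ∃ s ∈ T, k = n i * s := by
      have h3 := (rp_simple cs R.nsys i).unique hk
      exact ⟨_, h3, by group⟩
    have h4 : (n i)⁻¹ * v * n i ∈ RGD.Sup X (RGD.PosNe cs h i) := by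
      have := R.cj_n_V i
      rw [← this] at hv
      obtain ⟨v', hv', e⟩ := Subgroup.mem_map.1 hv
      have e' : n i * v' * (n i)⁻¹ = v := e
      rw [← e']
      have : (n i)⁻¹ * (n i * v' * (n i)⁻¹) * n i = v' := by group
      rw [this]
      exact hv'
    have h5 := R.T_le_normalizer (S := RGD.PosNe cs h i) (fun x hx => hx.1) (inv_mem hs)
    have h6 := (Subgroup.mem_normalizer_iff.1 h5 _).1 h4
    have e : (n i * s)⁻¹ * v * (n i * s) = s⁻¹ * ((n i)⁻¹ * v * n i) * s⁻¹⁻¹ := by group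
    rw [e]
    exact h6
  have h2 : k⁻¹ * t * k ∈ T := by
    have := (Subgroup.mem_normalizer_iff.1 (inv_mem hk.mem_normalizer) t).1 ht
    rwa [inv_inv] at this
  have e : k⁻¹ * (v * t) * k = k⁻¹ * v * k * (k⁻¹ * t * k) := by group
  rw [e]
  refine mul_mem ?_ (RGD.T_le_B h2)
  refine RGD.U_le_B ?_
  exact RGD.Sup_mono (posNe_sub i) h1

/-- `P_i = B ∪ X_i n_i B` -/
theorem panel {i : I} {g : Y} (hg : g ∈ PJ cs h T X {i}) :
    g ∈ RGD.B cs h T X ∨ ∃ x ∈ X (sr i), ∃ b ∈ RGD.B cs h T X, g = x * (n i * b) := by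
  obtain ⟨w, hw, hc⟩ := (mem_PJ_iff_cell R).1 hg
  rcases mem_WJ_singleton hw with rfl | rfl
  · exact Or.inl hc.mem_of_one
  · right
    obtain ⟨b₁, hb₁, k, hk, b₂, hb₂, rfl⟩ := hc
    obtain ⟨s, hs, rfl⟩ : ∃ s ∈ T, k = n i * s := ⟨_, (rp_simple cs R.nsys i).unique hk, by group⟩
    obtain ⟨u, hu, v, hv, t, ht, rfl⟩ := mem_B_left R i hb₁
    refine ⟨u, hu, (n i)⁻¹ * (v * t) * n i * (s * b₂), ?_, by group⟩
    exact mul_mem (VT_conj R i (rp_simple cs R.nsys i) hv ht) (mul_mem (RGD.T_le_B hs) hb₂)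

theorem n_mem_P (i : I) : n i ∈ PJ cs h T X {i} := LJ_le_PJ (n_mem_LJ R rfl)

theorem n_not_mem_B (i : I) : n i ∉ RGD.B cs h T X := fun hB =>
  simple_ne_one (cs := cs) i (R.eq_one_of_mem_B (rp_simple cs R.nsys i) hB)

/-- the sign on the panel -/
theorem sq_T [Finite Y] (i : I) {t : Y} (ht : t ∈ T) :
    sq (PJ cs h T X {i}) (RGD.B cs h T X) ⟨t, B_le_PJ (RGD.T_le_B ht)⟩ = sv (X (sr i)) t := by
  have htX : t ∈ Subgroup.normalizer (X (sr i) : Set Y) := by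
    have h1 := R.tor _ (isRoot_sr cs h i) t ht
    rw [Subgroup.mem_normalizer_iff]
    intro x
    conv_rhs => rw [← h1]
    exact conj_mem_cj.symm
  rw [sv_eq htX]
  refine sq_eq_sg (n := n i) B_le_PJ (RGD.X_le_B (isRoot_sr cs h i) (sr_nonneg i)) (n_mem_P R i) ?_ ?_
    (n_not_mem_B R i) htX (RGD.T_le_B ht) ?_
  · intro g hg
    rcases panel R hg with h1 | ⟨x, hx, b, hb, rfl⟩
    · exact Or.inl h1
    · exact Or.inr ⟨x, hx, b, hb, by group⟩
  · intro x hx hB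
    have hk : Rp cs R.nsys (cs.simple i) (n i)⁻¹ := by
      have := (rp_simple cs R.nsys i).inv
      rwa [inv_simple] at this
    exact eq_one_of_conj_mem_B R hx hk (by rwa [inv_inv])
  · refine RGD.T_le_B ?_
    have := (Subgroup.mem_normalizer_iff.1 (inv_mem (R.nsys.norm i)) t).1 ht
    rwa [inv_inv] at this

end Panel

section Main

variable (R : RGD cs h p T n X) [Finite W] [Finite Y] [hp : Fact p.Prime] (hG : GG cs h T X = ⊤)

include R

theorem odd_order_U (hp2 : p ≠ 2) {u : Y} (hu : u ∈ RGD.Sup X (RGD.Pos cs h)) : ∃ m : ℕ, Odd m ∧ u ^ m = 1 := by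
  obtain ⟨k, hk⟩ := R.isPGroup_Upos ⟨u, hu⟩
  exact ⟨p ^ k, (hp.out.odd_of_ne_two hp2).pow, by simpa using congrArg Subtype.val hk⟩

/-- an element of `P_i` normalizing a subgroup of `U` containing `X_i` is in `B` -/
theorem mem_B_of_norm {i : I} {V₁ : Subgroup Y} (h1 : X (sr i) ≤ V₁) (h2 : V₁ ≤ RGD.Sup X (RGD.Pos cs h)) {g : Y}
    (hg : g ∈ PJ cs h T X {i}) (hgV : g ∈ Subgroup.normalizer (V₁ : Set Y)) : g ∈ RGD.B cs h T X := by
  obtain ⟨w, hw, hc⟩ := (mem_PJ_iff_cell R).1 hg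
  rcases mem_WJ_singleton hw with rfl | rfl
  · exact hc.mem_of_one
  · exfalso
    obtain ⟨b₁, hb₁, k, hk, b₂, hb₂, rfl⟩ := hc
    obtain ⟨u, hu, hu1⟩ := exists_ne_one R i
    have h3 : b₁ * k * b₂ * u * (b₁ * k * b₂)⁻¹ ∈ RGD.Sup X (RGD.Pos cs h) :=
      h2 ((Subgroup.mem_normalizer_iff.1 hgV u).1 (h1 hu))
    -- `u' = b₂ u b₂⁻¹ = v · u₁`
    have hUB : ∀ {b y : Y}, b ∈ RGD.B cs h T X → y ∈ RGD.Sup X (RGD.Pos cs h) →
        b * y * b⁻¹ ∈ RGD.Sup X (RGD.Pos cs h) := fun {b y} hb hy =>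
      (Subgroup.mem_normalizer_iff.1 (R.B_le_normalizer_U hb) y).1 hy
    have h4 : k * (b₂ * u * b₂⁻¹) * k⁻¹ ∈ RGD.B cs h T X := by
      have h5 := hUB (inv_mem hb₁) h3
      have e : b₁⁻¹ * (b₁ * k * b₂ * u * (b₁ * k * b₂)⁻¹) * b₁⁻¹⁻¹ = k * (b₂ * u * b₂⁻¹) * k⁻¹ := by group
      rw [e] at h5
      exact RGD.U_le_B h5
    have h6 : b₂ * u * b₂⁻¹ ∈ RGD.Sup X (RGD.Pos cs h) :=
      hUB hb₂ (RGD.le_Sup (S := RGD.Pos cs h) ⟨isRoot_sr cs h i, sr_nonneg i⟩ hu)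
    obtain ⟨v, hv, u₁, hu₁, t, ht, e⟩ := R.mem_B' i (RGD.U_le_B (T := T) h6)
    have ht1 : t = 1 := by
      have h7 : t ∈ RGD.Sup X (RGD.Pos cs h) := by
        have e2 : t = (v * u₁)⁻¹ * (b₂ * u * b₂⁻¹) := by rw [e]; group
        rw [e2]
        refine mul_mem (inv_mem (mul_mem ?_ ?_)) h6
        · exact RGD.Sup_mono (posNe_sub i) hv
        · exact RGD.le_Sup (S := RGD.Pos cs h) ⟨isRoot_sr cs h i, sr_nonneg i⟩ hu₁
      obtain ⟨m, hm⟩ := R.isPGroup_Upos ⟨t, h7⟩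
      have hm' : t ^ p ^ m = 1 := by simpa using congrArg Subtype.val hm
      have h8 : orderOf t ∣ p ^ m := orderOf_dvd_of_pow_eq_one hm'
      have h9 : orderOf t ∣ Nat.card T := by
        have := orderOf_dvd_natCard (⟨t, ht⟩ : T)
        rwa [Subgroup.orderOf_mk] at this
      have h10 : Nat.Coprime (Nat.card T) (p ^ m) := R.tcop.pow_right m
      have h11 := Nat.dvd_gcd h9 h8
      rw [h10] at h11
      exact orderOf_eq_one_iff.1 (Nat.dvd_one.1 h11)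
    rw [ht1, mul_one] at e
    have hkv : k * v * k⁻¹ ∈ RGD.B cs h T X := by
      have hk' : Rp cs R.nsys (cs.simple i) k⁻¹ := by
        have := hk.inv
        rwa [inv_simple] at this
      have := VT_conj R i hk' hv (one_mem T)
      rwa [mul_one, inv_inv] at this
    have hku : k * u₁ * k⁻¹ ∈ RGD.B cs h T X := by
      have e2 : k * u₁ * k⁻¹ = (k * v * k⁻¹)⁻¹ * (k * (b₂ * u * b₂⁻¹) * k⁻¹) := by rw [e]; group
      rw [e2]
      exact mul_mem (inv_mem hkv) h4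
    have hu₁1 := eq_one_of_conj_mem_B R hu₁ hk hku
    rw [hu₁1, mul_one] at e
    -- so `b₂ u b₂⁻¹ ∈ V_i`, hence `u ∈ V_i`
    have hVB : RGD.B cs h T X ≤ Subgroup.normalizer (RGD.Sup X (RGD.PosNe cs h i) : Set Y) := by
      refine sup_le (R.T_le_normalizer fun x hx => hx.1) ?_
      rw [R.Upos_eq i]
      exact sup_le (R.X_le_normalizer_V i) Subgroup.le_normalizer
    have huV : u ∈ RGD.Sup X (RGD.PosNe cs h i) := by
      have h12 := (Subgroup.mem_normalizer_iff.1 (hVB (inv_mem hb₂)) v).1 hv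
      rw [← e] at h12
      have e2 : b₂⁻¹ * (b₂ * u * b₂⁻¹) * b₂⁻¹⁻¹ = u := by group
      rwa [e2] at h12
    have hkuB : k * u * k⁻¹ ∈ RGD.B cs h T X := by
      have hk' : Rp cs R.nsys (cs.simple i) k⁻¹ := by
        have := hk.inv
        rwa [inv_simple] at this
      have := VT_conj R i hk' huV (one_mem T)
      rwa [mul_one, inv_inv] at this
    exact hu1 (eq_one_of_conj_mem_B R hu hk hkuB)

include hG

/-- **The abstract theorem.** -/
theorem main (hp2 : p ≠ 2) {V : Subgroup Y} (hV : RGD.B cs h T X ≤ Subgroup.normalizer (V : Set Y)) (k₀ : Y)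
    (ha : ∀ w k, Rp cs R.nsys w k → (∀ t ∈ T, sv V (k⁻¹ * t * k) = sv V t) →
      k ∈ Subgroup.normalizer (V : Set Y) ∨ k₀⁻¹ * k ∈ Subgroup.normalizer (V : Set Y))
    {i : I} {w₁ : W} {k₁ : Y} (hk₁ : Rp cs R.nsys w₁ k₁)
    (hb : ∀ g ∈ PJ cs h T X {i},
      g ∈ Subgroup.normalizer ((V.map (MulAut.conj k₁).toMonoidHom : Subgroup Y) : Set Y) → g ∈ RGD.B cs h T X)
    (hs : ∀ t ∈ T, sv V (k₁⁻¹ * t * k₁) = sv (X (sr i)) t)
    (hc : ∀ w k, Rp cs R.nsys w k → (∀ t ∈ T, sv V (k⁻¹ * t * k) = sv (X (sr i)) t) →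
      k₁⁻¹ * k ∈ Subgroup.normalizer (V : Set Y) ∨ (n i * k₁)⁻¹ * k ∈ Subgroup.normalizer (V : Set Y))
    (hd : ∃ t ∈ T, sv V t ≠ 1) (Au : Subgroup (MulAut Y)) (hAu : IsPGroup p Au)
    (he : ∀ a ∈ Au, ∃ g : Y, V.map (a : MulAut Y).toMonoidHom = V.map (MulAut.conj g).toMonoidHom) :
    ∃ θ : Y → ℂ, IsIrrCharacter Y θ ∧ θ ≠ 1 ∧ (∃ d : ℕ, θ 1 = d ∧ ¬ p ∣ d) ∧ (∀ g, ∃ k : ℤ, θ g = k) ∧
      ∀ a ∈ Au, ∀ x, θ (a x) = θ x := by
  classical
  have : Fintype Y := Fintype.ofFinite Y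
  have hT : T ≤ Subgroup.normalizer (V : Set Y) := RGD.T_le_B.trans hV
  have hcell : ∀ g : Y, ∃ w, Cell R.nsys cs h X w g := fun g => (mem_GG R).1 (hG ▸ Subgroup.mem_top g)
  have hTk : ∀ {w : W} {k t : Y}, Rp cs R.nsys w k → t ∈ T → k⁻¹ * t * k ∈ T := by
    intro w k t hk ht
    have := (Subgroup.mem_normalizer_iff.1 (inv_mem hk.mem_normalizer) t).1 ht
    rwa [inv_inv] at this
  set P := Subgroup.normalizer (V : Set Y) with hP
  set Q := PJ cs h T X {i} with hQ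
  -- norm
  obtain ⟨N, hN, hN2⟩ := inner_le_two (A := P) (B := P) (ξ := cu (sg V)) (ξ' := cu (sg V)) 1 k₀ (by
    intro g hg
    obtain ⟨w, b₁, hb₁, k, hk, b₂, hb₂, rfl⟩ := hcell g
    have hg' : Good P P (cu (sg V)) (cu (sg V)) k :=
      (good_mul_iff (⟨b₁, hV hb₁⟩ : P) (⟨b₂, hV hb₂⟩ : P)).1 hg
    have h1 : ∀ t ∈ T, sv V (k⁻¹ * t * k) = sv V t := by
      intro t ht
      have h2 := hg' ⟨t, hT ht⟩ ⟨k⁻¹ * t * k, hT (hTk hk ht)⟩ rfl
      rw [cu_eq_iff] at h2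
      rw [sv_eq (hT (hTk hk ht)), sv_eq (hT ht)]
      exact h2.symm
    rcases ha w k hk h1 with h2 | h2
    · exact Or.inl ⟨b₁ * k * b₂, mul_mem (mul_mem (hV hb₁) h2) (hV hb₂), 1, one_mem _, by rw [mul_one, mul_one]⟩
    · refine Or.inr ⟨b₁, hV hb₁, k₀⁻¹ * k * b₂, mul_mem h2 (hV hb₂), by group⟩)
  -- the inner product
  have hinner : classInner (indFun Q fun x => (cu (sq Q (RGD.B cs h T X)) x : ℂ)) (Psi V) = 1 := by
    refine inner_eq_one (A := Q) (B := P) (ξ := cu (sq Q (RGD.B cs h T X))) (ξ' := cu (sg V)) (g₁ := k₁) ?_ ?_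
    · rintro ⟨a, ha⟩ ⟨b, hb0⟩ hab
      change b = k₁⁻¹ * a * k₁ at hab
      rw [cu_eq_iff]
      have haV : a ∈ Subgroup.normalizer ((V.map (MulAut.conj k₁).toMonoidHom : Subgroup Y) : Set Y) := by
        have h1 := mem_normalizer_map (a := MulAut.conj k₁) hb0
        have e : MulAut.conj k₁ b = a := by
          rw [MulAut.conj_apply, hab]; group
        rwa [e] at h1
      have haB : a ∈ RGD.B cs h T X := hb a ha haV
      obtain ⟨t, ht, u, hu, rfl⟩ := R.mem_B.1 haB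
      have htk := hTk hk₁ ht
      have hbt : (k₁⁻¹ * t * k₁)⁻¹ * b = k₁⁻¹ * u * k₁ := by rw [hab]; group
      have hukP : k₁⁻¹ * u * k₁ ∈ P := by
        rw [← hbt]
        exact mul_mem (inv_mem (hT htk)) hb0
      obtain ⟨m, hm, hum⟩ := odd_order_U R hp2 hu
      have e1 : (⟨t * u, ha⟩ : Q) = ⟨t, B_le_PJ (RGD.T_le_B ht)⟩ * ⟨u, B_le_PJ (RGD.U_le_B hu)⟩ := rfl
      have e2 : sq Q (RGD.B cs h T X) ⟨t * u, ha⟩ = sv (X (sr i)) t := by
        rw [e1, map_mul, sq_T R i ht, sq_of_odd _ _ _ hm (Subtype.ext (by simpa using hum)), mul_one]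
      have e3 : (⟨b, hb0⟩ : P) = ⟨k₁⁻¹ * t * k₁, hT htk⟩ * ⟨k₁⁻¹ * u * k₁, hukP⟩ := by
        apply Subtype.ext
        show b = k₁⁻¹ * t * k₁ * (k₁⁻¹ * u * k₁)
        rw [hab]; group
      have e4 : (k₁⁻¹ * u * k₁) ^ m = 1 := by
        have : k₁⁻¹ * u * k₁ = k₁⁻¹ * u * k₁⁻¹⁻¹ := by group
        rw [this, conj_pow, hum, mul_one, mul_inv_cancel]
      have e5 : sg V ⟨k₁⁻¹ * u * k₁, hukP⟩ = 1 := sg_of_odd _ _ hm (Subtype.ext (by simpa using e4))
      rw [e2, e3, map_mul, e5, mul_one, ← sv_eq, hs t ht]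
    · intro g hg
      obtain ⟨w, b₁, hb₁, k, hk, b₂, hb₂, rfl⟩ := hcell g
      have hg' : Good Q P (cu (sq Q (RGD.B cs h T X))) (cu (sg V)) k :=
        (good_mul_iff (⟨b₁, B_le_PJ hb₁⟩ : Q) (⟨b₂, hV hb₂⟩ : P)).1 hg
      have h1 : ∀ t ∈ T, sv V (k⁻¹ * t * k) = sv (X (sr i)) t := by
        intro t ht
        have h2 := hg' ⟨t, B_le_PJ (RGD.T_le_B ht)⟩ ⟨k⁻¹ * t * k, hT (hTk hk ht)⟩ rfl
        rw [cu_eq_iff, sq_T R i ht] at h2
        rw [sv_eq (hT (hTk hk ht))]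
        exact h2.symm
      rcases hc w k hk h1 with h2 | h2
      · exact ⟨b₁, B_le_PJ hb₁, k₁⁻¹ * k * b₂, mul_mem h2 (hV hb₂), by group⟩
      · exact ⟨b₁ * n i, mul_mem (B_le_PJ hb₁) (n_mem_P R i), (n i * k₁)⁻¹ * k * b₂, mul_mem h2 (hV hb₂), by group⟩
  have hinner' : classInner (Psi V) (indFun Q fun x => (cu (sq Q (RGD.B cs h T X)) x : ℂ)) = 1 := by
    rw [← Characters.Core.classInner_conj_symm, hinner, map_one]
  refine odd_tool hp2 (ind_isCharacter P (cu (sg V))) (ind_isCharacter Q (cu (sq Q (RGD.B cs h T X)))) (ind_int P _)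
    (ind_int Q _) hN hN2 hinner' ?_ ?_ Au hAu ?_
  · obtain ⟨t, ht, ht1⟩ := hd
    refine inner_one ⟨⟨t, hT ht⟩, fun h1 => ht1 ?_⟩
    rw [sv_eq (hT ht)]
    have h2 := congrArg (fun u : ℂˣ => (u : ℂ)) h1
    rw [cu_apply, Units.val_one] at h2
    exact Units.ext (by rw [Units.val_one]; exact_mod_cast h2)
  · intro d hd' hpd
    rw [ind_one] at hd'
    have h1 : P.index = d := by exact_mod_cast hd'
    obtain ⟨S, hS⟩ := KFacts.RgdAutFacts.exists_sylow R hG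
    have h2 : (S : Subgroup Y) ≤ P := by
      rw [hS]
      exact RGD.U_le_B.trans hV
    have h3 : ¬ p ∣ (S : Subgroup Y).index := S.not_dvd_index
    exact h3 ((h1 ▸ hpd : p ∣ P.index).trans (Subgroup.index_dvd_of_le h2))
  · intro a ha' x
    obtain ⟨g, hg⟩ := he a ha'
    exact Psi_aut hg x

end Main

section Aut

variable (R : RGD cs h p T n X) [Finite W] [Finite Y] [hp : Fact p.Prime] (hG : GG cs h T X = ⊤)

/-- the automorphisms which map `V` to a conjugate -/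
def StC (V : Subgroup Y) : Subgroup (MulAut Y) where
  carrier := {a | ∃ g : Y, V.map (a : MulAut Y).toMonoidHom = V.map (MulAut.conj g).toMonoidHom}
  one_mem' := ⟨1, by rw [map_one]⟩
  mul_mem' := by
    rintro a b ⟨g, hg⟩ ⟨k, hk⟩
    refine ⟨a k * g, ?_⟩
    have e1 : ∀ (x y : MulAut Y) (U : Subgroup Y), U.map (x * y).toMonoidHom = (U.map y.toMonoidHom).map x.toMonoidHom := by
      intro x y U
      rw [Subgroup.map_map]
      rfl
    rw [e1, hk, map_mul, e1, ← hg, ← e1, ← e1]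
    congr 2
    ext x
    simp [MulAut.mul_apply, MulAut.conj_apply]
  inv_mem' := by
    rintro a ⟨g, hg⟩
    refine ⟨a⁻¹ g⁻¹, ?_⟩
    have e1 : ∀ (x y : MulAut Y) (U : Subgroup Y), U.map (x * y).toMonoidHom = (U.map y.toMonoidHom).map x.toMonoidHom := by
      intro x y U
      rw [Subgroup.map_map]
      rfl
    have h1 : V = (V.map (a : MulAut Y).toMonoidHom).map (MulAut.conj g⁻¹).toMonoidHom := by
      rw [hg, ← e1, ← map_mul, inv_mul_cancel, map_one]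
      exact (Subgroup.map_id V).symm
    conv_lhs => rw [h1]
    rw [← e1, ← e1]
    congr 2
    ext x
    rw [MulAut.mul_apply, MulAut.mul_apply, MulAut.conj_apply, MulAut.conj_apply, map_mul, map_mul, map_inv,
      MulAut.inv_apply_self, map_inv, map_inv, inv_inv]

theorem mem_StC {V : Subgroup Y} {a : MulAut Y} : a ∈ StC V ↔
    ∃ g : Y, V.map (a : MulAut Y).toMonoidHom = V.map (MulAut.conj g).toMonoidHom := Iff.rfl

theorem conj_mem_StC (V : Subgroup Y) (g : Y) : MulAut.conj g ∈ StC V := ⟨g, rfl⟩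

include R hG

/-- every automorphism is inner times a diagonal one -/
theorem exists_inner_diag (a : MulAut Y) : ∃ (g : Y) (σ : Equiv.Perm I), Diag T X (MulAut.conj g * a) σ := by
  obtain ⟨S, hS⟩ := KFacts.RgdAutFacts.exists_sylow R hG
  obtain ⟨g, hg⟩ := MulAction.exists_smul_eq Y (a • S) S
  have h1 : Fix (MulAut.conj g * a) (RGD.Sup X (RGD.Pos cs h)) := by
    rw [fix_iff, ← hS]
    have h2 := congrArg (fun P : Sylow p Y => (P : Subgroup Y)) hg
    have h3 : (S : Subgroup Y).map (MulAut.conj g * a).toMonoidHom =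
        ((S : Subgroup Y).map a.toMonoidHom).map (MulAut.conj g).toMonoidHom := by
      rw [Subgroup.map_map]
      rfl
    rw [h3]
    exact h2
  obtain ⟨u, -, h2, -, h3, -, -⟩ := exists_frame R hG h1
  obtain ⟨σ, hσ⟩ := exists_diag R hG h2 h3
  refine ⟨u * g, σ, ?_⟩
  rwa [map_mul, mul_assoc]

/-- a diagonal automorphism with trivial diagram symmetry fixes all root groups -/
theorem map_of_diag {β : MulAut Y} (D : Diag T X β 1) {r : I → ℤ} (hr : IsRoot cs h r) :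
    (X r).map β.toMonoidHom = X r := by
  have h1 := D.root_comp R (fun i j => rfl) hr
  rw [← fix_iff]
  intro x
  exact h1 x

/-- **Automorphisms of odd order and root groups**: `V` a subgroup fixed by all automorphisms fixing the root groups. -/
theorem mem_StC_of_odd (hσ : ∀ σ : Equiv.Perm I, (∀ i j, M (σ i) (σ j) = M i j) → σ ^ 2 = 1) {V : Subgroup Y}
    (hV : ∀ β : MulAut Y, (∀ r, IsRoot cs h r → (X r).map β.toMonoidHom = X r) → V.map β.toMonoidHom = V)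
    {a : MulAut Y} {m : ℕ} (hm : Odd m) (ha : a ^ m = 1) : a ∈ StC V := by
  have key : a ^ 2 ∈ StC V := by
    obtain ⟨g, σ, D⟩ := exists_inner_diag R hG a
    have h1 := D.pow 2
    rw [hσ σ (D.matrix R)] at h1
    have h2 : (MulAut.conj g * a) ^ 2 ∈ StC V := by
      refine ⟨1, ?_⟩
      rw [hV _ fun r hr => map_of_diag R hG h1 hr, map_one]
      exact (Subgroup.map_id V).symm
    -- `a = conj g⁻¹ * β`
    have e : a ^ 2 = MulAut.conj g⁻¹ * ((MulAut.conj g * a) * MulAut.conj g⁻¹ * (MulAut.conj g * a)⁻¹) *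
        (MulAut.conj g * a) ^ 2 := by
      rw [pow_two, pow_two, map_inv]
      group
    rw [e]
    refine mul_mem (mul_mem (conj_mem_StC V _) ?_) h2
    have e2 : (MulAut.conj g * a) * MulAut.conj g⁻¹ * (MulAut.conj g * a)⁻¹ =
        MulAut.conj ((MulAut.conj g * a) g⁻¹) := by
      ext x
      simp [MulAut.mul_apply, MulAut.conj_apply]
    rw [e2]
    exact conj_mem_StC V _
  obtain ⟨r, hr⟩ := hm
  have h4 : a = (a ^ 2) ^ (r + 1) := by
    rw [← pow_mul]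
    have : 2 * (r + 1) = m + 1 := by omega
    rw [this, pow_succ, ha, one_mul]
  rw [h4]
  exact pow_mem key _

end Aut

section Root

variable (R : RGD cs h p T n X) [Finite W] [Finite Y] [hp : Fact p.Prime] (hG : GG cs h T X = ⊤)

include R hG

/-- **The case of a root group.** `x₀` is a root (the highest one) in the `W`-orbit of the simple root `i`. -/
theorem main_root (hp2 : p ≠ 2) (hσ : ∀ σ : Equiv.Perm I, (∀ i j, M (σ i) (σ j) = M i j) → σ ^ 2 = 1)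
    {x₀ : I → ℤ} (hx₀ : IsRoot cs h x₀) (hV : RGD.B cs h T X ≤ Subgroup.normalizer (X x₀ : Set Y)) {i : I} {w₁ : W}
    (hw₁ : rep cs h w₁ x₀ = sr i)
    (hsep : ∀ w, (∀ t ∈ T, sv (X (rep cs h w x₀)) t = sv (X x₀) t) → rep cs h w x₀ = x₀ ∨ rep cs h w x₀ = -x₀)
    (hd : ∃ w, rep cs h w x₀ ≠ x₀ ∧ rep cs h w x₀ ≠ -x₀) (Au : Subgroup (MulAut Y)) (hAu : IsPGroup p Au) :
    ∃ θ : Y → ℂ, IsIrrCharacter Y θ ∧ θ ≠ 1 ∧ (∃ d : ℕ, θ 1 = d ∧ ¬ p ∣ d) ∧ (∀ g, ∃ k : ℤ, θ g = k) ∧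
      ∀ a ∈ Au, ∀ x, θ (a x) = θ x := by
  have hconj : ∀ {w : W} {k : Y}, Rp cs R.nsys w k → (X x₀).map (MulAut.conj k).toMonoidHom = X (rep cs h w x₀) :=
    fun hk => R.conj_rp hk hx₀
  have hsv : ∀ {w : W} {k : Y} (t : Y), Rp cs R.nsys w k → sv (X x₀) (k⁻¹ * t * k) = sv (X (rep cs h w x₀)) t := by
    intro w k t hk
    rw [← hconj hk, ← sv_conj (X x₀) k (k⁻¹ * t * k)]
    congr 1
    group
  have hnorm : ∀ {w : W} {k : Y}, Rp cs R.nsys w k → rep cs h w x₀ = x₀ → k ∈ Subgroup.normalizer (X x₀ : Set Y) := by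
    intro w k hk hw
    have h1 := hconj hk
    rw [hw] at h1
    rw [Subgroup.mem_normalizer_iff]
    intro y
    conv_rhs => rw [← h1]
    exact conj_mem_cj.symm
  obtain ⟨k₁, hk₁⟩ := exists_rp cs R.nsys w₁
  -- the opposite
  set w' := w₁⁻¹ * (cs.simple i * w₁) with hw'
  have hopp : rep cs h w' x₀ = -x₀ := by
    rw [hw', rep_mul_apply, rep_mul_apply, hw₁, rep_simple_sr, map_neg]
    congr 1
    rw [← hw₁, ← rep_mul_apply, inv_mul_cancel, map_one, Module.End.one_apply]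
  obtain ⟨k₀, hk₀⟩ := exists_rp cs R.nsys w'
  have hneg : ∀ {w v : W}, rep cs h w x₀ = rep cs h v x₀ → rep cs h (v⁻¹ * w) x₀ = x₀ := by
    intro w v e
    rw [rep_mul_apply, e, ← rep_mul_apply, inv_mul_cancel, map_one, Module.End.one_apply]
  refine main R hG hp2 hV k₀ ?_ (i := i) hk₁ ?_ ?_ ?_ ?_ Au hAu ?_
  · intro w k hk hs
    have h1 : ∀ t ∈ T, sv (X (rep cs h w x₀)) t = sv (X x₀) t := fun t ht => by rw [← hs t ht, hsv t hk]
    rcases hsep w h1 with h2 | h2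
    · exact Or.inl (hnorm hk h2)
    · exact Or.inr (hnorm (hk₀.inv.mul hk) (hneg (by rw [h2, hopp])))
  · intro g hg
    rw [hconj hk₁, hw₁]
    exact mem_B_of_norm R le_rfl (RGD.le_Sup (S := RGD.Pos cs h) ⟨isRoot_sr cs h i, sr_nonneg i⟩) hg
  · intro t _
    rw [hsv t hk₁, hw₁]
  · intro w k hk hs
    have h1 : ∀ t ∈ T, sv (X (rep cs h (w₁⁻¹ * w) x₀)) t = sv (X x₀) t := by
      intro t ht
      have hkk : Rp cs R.nsys (w₁⁻¹ * w) (k₁⁻¹ * k) := hk₁.inv.mul hk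
      have ht' : k₁ * t * k₁⁻¹ ∈ T := (Subgroup.mem_normalizer_iff.1 hk₁.mem_normalizer t).1 ht
      rw [← hsv t hkk]
      have e : (k₁⁻¹ * k)⁻¹ * t * (k₁⁻¹ * k) = k⁻¹ * (k₁ * t * k₁⁻¹) * k := by group
      rw [e, hs _ ht', ← hw₁, ← hconj hk₁, sv_conj]
    have hs2 : ∀ v : W, rep cs h w₁ (rep cs h (w₁⁻¹ * v) x₀) = rep cs h v x₀ := by
      intro v
      rw [← rep_mul_apply, mul_inv_cancel_left]
    rcases hsep _ h1 with h2 | h2
    · left
      exact hnorm (hk₁.inv.mul hk) h2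
    · right
      have h3 : rep cs h w x₀ = -sr i := by
        rw [← hs2 w, h2, map_neg, hw₁]
      refine hnorm ((((rp_simple cs R.nsys i).mul hk₁).inv).mul hk) (hneg ?_)
      rw [h3, rep_mul_apply, hw₁, rep_simple_sr]
  · by_contra hcon
    push Not at hcon
    obtain ⟨w, h1, h2⟩ := hd
    obtain ⟨k, hk⟩ := exists_rp cs R.nsys w
    rcases hsep w fun t ht => by
      rw [← hsv t hk, hcon t ht, hcon _ (by
        have := (Subgroup.mem_normalizer_iff.1 (inv_mem hk.mem_normalizer) t).1 ht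
        rwa [inv_inv] at this)] with h3 | h3
    · exact h1 h3
    · exact h2 h3
  · intro a ha
    obtain ⟨m, hm⟩ := hAu ⟨a, ha⟩
    have hm' : a ^ p ^ m = 1 := by simpa using congrArg Subtype.val hm
    exact mem_StC_of_odd R hG hσ (fun β hβ => hβ _ hx₀) (hp.out.odd_of_ne_two hp2).pow hm'

end Root

end Cfsg.Agent.H798.Oc.Main
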