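import Cfsg.Agent.OddOrderCharacters.Clifford
import Cfsg.Agent.OddOrderCharacters.Galois
import Cfsg.Agent.Characters.Galois
import Cfsg.Agent.Characters.GaloisBasic

/-!
# Two rational characters with odd inner product (helper798)

`odd_tool` : `Ψ`, `π` integer valued characters, `⟨Ψ, Ψ⟩ ≤ 2`, `⟨Ψ, π⟩ = 1`, `p ∤ Ψ(1)`, `⟨Ψ, 1⟩ = 0`, `Ψ` invariant under the
`p`-group `A` of automorphisms, `p` odd: `Ψ` has an integer valued `A`-invariant constituent of degree prime to `p`.
-/

set_option autoImplicit false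
set_option maxHeartbeats 400000

open Cfsg

namespace Cfsg.Agent.H798.Oc.Pair

open Cfsg.Agent.Characters.Core Cfsg.Agent.OddOrderCharacters

variable {S : Type*} [Group S] [Fintype S]

/-- two constituents of a character of norm at most two -/
theorem eq_add_of_two {Ψ : S → ℂ} (hΨ : IsCharacter S Ψ) {N : ℕ} (hN : classInner Ψ Ψ = N) (hN2 : N ≤ 2)
    {χ χ' : S → ℂ} (hχ : IsIrrCharacter S χ) (hχ' : IsIrrCharacter S χ') (hne : χ ≠ χ') (h : classInner Ψ χ ≠ 0)
    (h' : classInner Ψ χ' ≠ 0) : Ψ = χ + χ' := by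
  have h1 := Clifford.isCharacter_sub_irr hΨ hχ h
  have h2 : classInner (Ψ - χ) χ' = classInner Ψ χ' := by
    rw [classInner_sub_left, classInner_irr_ne hχ hχ' hne, sub_zero]
  have h3 := Clifford.isCharacter_sub_irr h1 hχ' (by rw [h2]; exact h')
  obtain ⟨a, ha⟩ := classInner_isNat h3 h3
  obtain ⟨b, hb⟩ := classInner_isNat h3 (isIrr_isCharacter hχ)
  obtain ⟨c, hc⟩ := classInner_isNat h3 (isIrr_isCharacter hχ')
  set Φ := Ψ - χ - χ' with hΦ
  have e1 : Ψ = Φ + (χ + χ') := by rw [hΦ]; ring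
  have hb' : classInner χ Φ = b := by
    have := classInner_conj_symm Φ χ
    rw [hb] at this
    simpa using this.symm
  have hc' : classInner χ' Φ = c := by
    have := classInner_conj_symm Φ χ'
    rw [hc] at this
    simpa using this.symm
  have e2 : classInner Ψ Ψ = a + 2 * b + 2 * c + 2 := by
    rw [e1]
    simp only [classInner_add_left, classInner_add_right]
    rw [ha, hb, hc, hb', hc', classInner_irr_self hχ, classInner_irr_self hχ', classInner_irr_ne hχ hχ' hne,
      classInner_irr_ne hχ' hχ hne.symm]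
    ring
  rw [hN] at e2
  have e3 : N = a + 2 * b + 2 * c + 2 := by exact_mod_cast e2
  have ha0 : a = 0 := by omega
  have : Φ = 0 := classInner_self_eq_zero (by rw [ha, ha0]; simp)
  rw [e1, this, zero_add]

theorem isGen {χ : S → ℂ} (h : IsCharacter S χ) : IsGeneralizedCharacter S χ :=
  ⟨χ, 0, h, isCharacter_zero, by simp⟩

/-- an odd inner product separates the constituents -/
theorem fix_of_odd {Ψ π : S → ℂ} (hΨ : IsCharacter S Ψ) (hπ : IsCharacter S π) {N : ℕ} (hN : classInner Ψ Ψ = N)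
    (hN2 : N ≤ 2) (h1 : classInner Ψ π = 1) {χ : S → ℂ} (hχ : IsIrrCharacter S χ) (h : classInner Ψ χ ≠ 0)
    {χ' : S → ℂ} (hχ' : IsIrrCharacter S χ') (h' : classInner Ψ χ' = classInner Ψ χ)
    (h'' : classInner χ' π = classInner χ π) : χ' = χ := by
  by_contra hne
  have e := eq_add_of_two hΨ hN hN2 hχ hχ' (fun h2 => hne h2.symm) h (by rw [h']; exact h)
  rw [e, classInner_add_left, h''] at h1
  obtain ⟨a, ha⟩ := classInner_isNat (isIrr_isCharacter hχ) hπ
  rw [ha] at h1
  have h2 : a + a = 1 := by exact_mod_cast h1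
  omega

/-- composition with an automorphism -/
theorem classInner_comp (a : MulAut S) (φ ψ : S → ℂ) :
    classInner (fun x => φ (a x)) (fun x => ψ (a x)) = classInner φ ψ := by
  rw [classInner_def, classInner_def]
  congr 1
  exact Fintype.sum_equiv a.toEquiv _ _ fun x => rfl

theorem odd_tool {p : ℕ} [hp : Fact p.Prime] (hp2 : p ≠ 2) {Ψ π : S → ℂ} (hΨ : IsCharacter S Ψ) (hπ : IsCharacter S π)
    (iΨ : ∀ g, ∃ k : ℤ, Ψ g = k) (iπ : ∀ g, ∃ k : ℤ, π g = k) {N : ℕ} (hN : classInner Ψ Ψ = N) (hN2 : N ≤ 2)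
    (h1 : classInner Ψ π = 1) (h0 : classInner Ψ 1 = 0) (hd : ∀ d : ℕ, Ψ 1 = d → ¬ p ∣ d)
    (A : Subgroup (MulAut S)) (hA : IsPGroup p A) (hinv : ∀ a ∈ A, ∀ x, Ψ (a x) = Ψ x) :
    ∃ θ : S → ℂ, IsIrrCharacter S θ ∧ θ ≠ 1 ∧ (∃ d : ℕ, θ 1 = d ∧ ¬ p ∣ d) ∧ (∀ g, ∃ k : ℤ, θ g = k) ∧
      ∀ a ∈ A, ∀ x, θ (a x) = θ x := by
  classical
  -- a constituent of degree prime to `p`
  obtain ⟨θ, hθ, hθΨ, d, hθd, hpd⟩ : ∃ θ : S → ℂ, IsIrrCharacter S θ ∧ classInner Ψ θ ≠ 0 ∧
      ∃ d : ℕ, θ 1 = d ∧ ¬ p ∣ d := by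
    by_contra hcon
    push Not at hcon
    have : Finite (IrrCharacter S) := finite_irr
    let _ : Fintype (IrrCharacter S) := Fintype.ofFinite _
    obtain ⟨m, hm⟩ := isCharacter_iff.1 hΨ
    choose dd hdpos hdd using fun χ : IrrCharacter S => isIrr_apply_one χ.2
    have h2 : Ψ 1 = ((∑ χ : IrrCharacter S, m χ * dd χ : ℕ) : ℂ) := by
      rw [hm, Finset.sum_apply]
      push_cast
      refine Finset.sum_congr rfl fun χ _ => ?_
      rw [Pi.smul_apply, hdd, nsmul_eq_mul]
    refine hd _ h2 (Finset.dvd_sum fun χ _ => ?_)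
    by_cases h3 : m χ = 0
    · rw [h3, zero_mul]
      exact dvd_zero _
    · refine Dvd.dvd.mul_left (hcon χ χ.2 ?_ (dd χ) (hdd χ)) _
      rw [hm, classInner_sum_nsmul_irr]
      exact_mod_cast h3
  refine ⟨θ, hθ, ?_, ⟨d, hθd, hpd⟩, ?_, ?_⟩
  · rintro rfl
    exact hθΨ h0
  · -- the values
    intro g
    refine Characters.Galois.exists_int_of_forall_ringEquiv ?_ fun σ => ?_
    · exact Characters.GaloisBasic.isIntegral_apply (isIrr_isCharacter hθ) g
    have gΨ : Galois.gal σ Ψ = Ψ := by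
      funext x
      obtain ⟨k, hk⟩ := iΨ x
      show σ (Ψ x) = Ψ x
      rw [hk, map_intCast]
    have gπ : Galois.gal σ π = π := by
      funext x
      obtain ⟨k, hk⟩ := iπ x
      show σ (π x) = π x
      rw [hk, map_intCast]
    have hσ : IsIrrCharacter S (Galois.gal σ θ) := GaloisTwist.isIrrCharacter_map σ hθ
    have h2 : classInner Ψ (Galois.gal σ θ) = classInner Ψ θ := by
      conv_lhs => rw [← gΨ]
      exact Galois.classInner_gal σ (isGen hΨ) (isGen (isIrr_isCharacter hθ))
    have h3 : classInner (Galois.gal σ θ) π = classInner θ π := by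
      conv_lhs => rw [← gπ]
      exact Galois.classInner_gal σ (isGen (isIrr_isCharacter hθ)) (isGen hπ)
    have h4 := fix_of_odd hΨ hπ hN hN2 h1 hθ hθΨ hσ h2 h3
    exact congrFun h4 g
  · -- invariance
    have key : ∀ a ∈ A, (fun x => θ (a (a x))) = θ ∨ (fun x => θ (a x)) = θ := by
      intro a ha
      by_contra hcon
      push Not at hcon
      obtain ⟨hc1, hc2⟩ := hcon
      have hir : ∀ b : MulAut S, IsIrrCharacter S (fun x => θ (b x)) := fun b =>
        isIrr_comp b.toMonoidHom b.surjective hθ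
      have hin : classInner Ψ (fun x => θ (a x)) = classInner Ψ θ := by
        rw [← classInner_comp a Ψ θ]
        congr 1
        funext x
        exact (hinv a ha x).symm
      have e := eq_add_of_two hΨ hN hN2 hθ (hir a) (fun h => hc2 h.symm) hθΨ (by rw [hin]; exact hθΨ)
      apply hc1
      funext x
      have e1 := congrFun e x
      have e2 := congrFun e (a x)
      rw [hinv a ha, e1] at e2
      simp only [Pi.add_apply] at e2
      have : θ x = θ (a (a x)) := by linear_combination e2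
      exact this.symm
    intro a ha x
    rcases key a ha with h2 | h2
    · obtain ⟨k, hk⟩ := hA ⟨a, ha⟩
      have hk' : a ^ p ^ k = 1 := by simpa using congrArg Subtype.val hk
      have hodd : Odd (p ^ k) := (hp.out.odd_of_ne_two hp2).pow
      obtain ⟨r, hr⟩ := hodd
      have h3 : ∀ (n : ℕ) y, θ ((a ^ (2 * n)) y) = θ y := by
        intro n
        induction n with
        | zero => intro y; rw [mul_zero, pow_zero]; rfl
        | succ n ih =>
          intro y
          have h4 : a ^ (2 * (n + 1)) = a ^ (2 * n) * (a * a) := by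
            rw [mul_add, pow_add, mul_one, pow_two]
          rw [h4, MulAut.mul_apply, ih]
          exact congrFun h2 y
      have h5 : (a ^ (2 * r)) (a x) = x := by
        rw [← MulAut.mul_apply, ← pow_succ, ← hr, hk']
        rfl
      have h6 := h3 r (a x)
      rw [h5] at h6
      exact h6.symm
    · exact congrFun h2 x

end Cfsg.Agent.H798.Oc.Pair
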