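import Cfsg.Agent.H798.Oc.Sign
import Cfsg.Agent.H798.Oc.Pair
import Cfsg.Agent.H150.Toral.Mackey
import Cfsg.Agent.Characters.Linear
import Cfsg.Agent.OddOrderCharacters.IndRes

/-!
# Characters induced from sign characters (helper798)

* `sv V g` : the sign of the conjugation by `g ∈ N(V)` on `V`;
* `cu ξ` : a homomorphism to `{±1}` as a complex linear character; `ind_int`, `ind_isCharacter`, `ind_one`;
* `Psi V = Ind_{N(V)} (sg V)`, `Psi_map`;
* `inner_le_two`, `inner_eq_one` : Mackey's formula.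
-/

set_option autoImplicit false
set_option linter.unusedSectionVars false
set_option maxHeartbeats 400000

open Cfsg

namespace Cfsg.Agent.H798.Oc.Ind

open Cfsg.Agent.Characters Cfsg.Agent.OddOrderCharacters Cfsg.Agent.H798.Oc.Sign Cfsg.Agent.H150.Toral

variable {G : Type*} [Group G]

section sv

variable [Finite G]

open Classical in
/-- the sign of the conjugation by `g` on `V` -/
noncomputable def sv (V : Subgroup G) (g : G) : ℤˣ :=
  if h : g ∈ Subgroup.normalizer (V : Set G) then sg V ⟨g, h⟩ else 1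

theorem sv_eq {V : Subgroup G} {g : G} (h : g ∈ Subgroup.normalizer (V : Set G)) : sv V g = sg V ⟨g, h⟩ := by
  unfold sv
  rw [dif_pos h]

theorem sv_map (V : Subgroup G) (a : MulAut G) (g : G) : sv (V.map a.toMonoidHom) (a g) = sv V g := by
  by_cases h : g ∈ Subgroup.normalizer (V : Set G)
  · rw [sv_eq h, sv_eq (mem_normalizer_map h), sg_map]
  · have h' : a g ∉ Subgroup.normalizer ((V.map a.toMonoidHom : Subgroup G) : Set G) := by
      intro h1
      apply h
      have h2 := mem_normalizer_map (a := a.symm) h1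
      have h3 : (V.map a.toMonoidHom).map (MulEquiv.toMonoidHom (a.symm : G ≃* G)) = V := by
        rw [Subgroup.map_map]
        convert Subgroup.map_id V
        ext x
        exact a.symm_apply_apply x
      rw [h3, MulEquiv.symm_apply_apply] at h2
      exact h2
    unfold sv
    rw [dif_neg h, dif_neg h']

theorem sv_conj (V : Subgroup G) (k g : G) : sv (V.map (MulAut.conj k).toMonoidHom) (k * g * k⁻¹) = sv V g :=
  sv_map V (MulAut.conj k) g

theorem sv_mul {V : Subgroup G} {g k : G} (hg : g ∈ Subgroup.normalizer (V : Set G))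
    (hk : k ∈ Subgroup.normalizer (V : Set G)) : sv V (g * k) = sv V g * sv V k := by
  rw [sv_eq hg, sv_eq hk, sv_eq (mul_mem hg hk), ← map_mul]
  rfl

theorem sv_of_odd {V : Subgroup G} {g : G} {n : ℕ} (hn : Odd n) (h : g ^ n = 1) : sv V g = 1 := by
  by_cases hg : g ∈ Subgroup.normalizer (V : Set G)
  · rw [sv_eq hg]
    exact sg_of_odd V _ hn (Subtype.ext (by simpa using h))
  · unfold sv
    rw [dif_neg hg]

end sv

section cu

/-- a sign character as a complex linear character -/
noncomputable def cu {H : Type*} [Group H] (ξ : H →* ℤˣ) : H →* ℂˣ := (Units.map (Int.castRingHom ℂ).toMonoidHom).comp ξ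

theorem cu_apply {H : Type*} [Group H] (ξ : H →* ℤˣ) (x : H) : ((cu ξ x : ℂˣ) : ℂ) = ((ξ x : ℤ) : ℂ) := rfl

theorem cu_eq_iff {H H' : Type*} [Group H] [Group H'] (ξ : H →* ℤˣ) (ξ' : H' →* ℤˣ) (x : H) (y : H') :
    cu ξ x = cu ξ' y ↔ ξ x = ξ' y := by
  constructor
  · intro h
    have h1 := congrArg (fun u : ℂˣ => (u : ℂ)) h
    rw [cu_apply, cu_apply] at h1
    exact Units.ext (by exact_mod_cast h1)
  · intro h
    apply Units.ext
    rw [cu_apply, cu_apply, h]

variable [Fintype G]

theorem ind_isCharacter (H : Subgroup G) (ξ : H →* ℂˣ) : IsCharacter G (indFun H fun x => (ξ x : ℂ)) :=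
  Cfsg.Agent.S0148.result H _ (Core.isIrr_isCharacter (Linear.isIrrCharacter_hom ξ))

theorem ind_one (H : Subgroup G) (ξ : H →* ℂˣ) : indFun H (fun x => (ξ x : ℂ)) 1 = (H.index : ℂ) := by
  rw [IndRes.indFun_apply_one]
  simp

theorem ind_int (H : Subgroup G) (ξ : H →* ℤˣ) (g : G) : ∃ k : ℤ, indFun H (fun x => (cu ξ x : ℂ)) g = k := by
  classical
  refine GaloisBasic.exists_int_of_rat (ind_isCharacter H (cu ξ)) g ?_
  have h1 : ∀ y : G, ∃ k : ℤ, extendByZero H (fun x => (cu ξ x : ℂ)) y = k := by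
    intro y
    by_cases hy : y ∈ H
    · rw [Core.extendByZero_of_mem H _ hy]
      exact ⟨_, cu_apply ξ _⟩
    · rw [Core.extendByZero_of_notMem H _ hy]
      exact ⟨0, by simp⟩
  choose k hk using h1
  refine ⟨(Nat.card H : ℚ)⁻¹ * ∑ x : G, (k (x⁻¹ * g * x) : ℚ), ?_⟩
  rw [Core.indFun_apply]
  push_cast
  congr 1
  exact Finset.sum_congr rfl fun x _ => hk _

end cu

section mackey

variable [Fintype G]

theorem mackey_dc (A B : Subgroup G) (ξ : A →* ℂˣ) (ξ' : B →* ℂˣ) :
    classInner (indFun A fun x => (ξ x : ℂ)) (indFun B fun x => (ξ' x : ℂ)) =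
      (Nat.card {i : DoubleCoset.Quotient (A : Set G) (B : Set G) // Good A B ξ ξ' i.out} : ℂ) := by
  have : Finite (DoubleCoset.Quotient (A : Set G) (B : Set G)) := by
    unfold DoubleCoset.Quotient
    infer_instance
  refine mackey A B (fun i : DoubleCoset.Quotient (A : Set G) (B : Set G) => i.out) ?_ ?_ ξ ξ'
  · intro g
    refine ⟨DoubleCoset.mk A B g, ?_⟩
    obtain ⟨a, b, ha, hb, e⟩ := DoubleCoset.mk_out_eq_mul A B g
    refine ⟨a⁻¹, inv_mem ha, b⁻¹, inv_mem hb, ?_⟩
    rw [e]
    group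
  · intro i j a ha b hb e
    have h1 : DoubleCoset.mk A B i.out = DoubleCoset.mk A B j.out := by
      rw [DoubleCoset.eq]
      exact ⟨a, ha, b, hb, e⟩
    rwa [DoubleCoset.out_eq', DoubleCoset.out_eq'] at h1

omit [Fintype G] in
theorem eq_mk {A B : Subgroup G} {i : DoubleCoset.Quotient (A : Set G) (B : Set G)} {g : G}
    (h : ∃ a ∈ A, ∃ b ∈ B, i.out = a * g * b) : i = DoubleCoset.mk A B g := by
  obtain ⟨a, ha, b, hb, e⟩ := h
  have h1 : DoubleCoset.mk A B g = DoubleCoset.mk A B i.out := by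
    rw [DoubleCoset.eq]
    exact ⟨a, ha, b, hb, e⟩
  rw [h1, DoubleCoset.out_eq']

/-- at most two good double cosets -/
theorem inner_le_two {A B : Subgroup G} {ξ : A →* ℂˣ} {ξ' : B →* ℂˣ} (g₀ g₁ : G)
    (h : ∀ g, Good A B ξ ξ' g → (∃ a ∈ A, ∃ b ∈ B, g = a * g₀ * b) ∨ ∃ a ∈ A, ∃ b ∈ B, g = a * g₁ * b) :
    ∃ N : ℕ, classInner (indFun A fun x => (ξ x : ℂ)) (indFun B fun x => (ξ' x : ℂ)) = N ∧ N ≤ 2 := by
  classical
  refine ⟨_, mackey_dc A B ξ ξ', ?_⟩
  have : Finite (DoubleCoset.Quotient (A : Set G) (B : Set G)) := by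
    unfold DoubleCoset.Quotient
    infer_instance
  have h1 : ∀ i : {i : DoubleCoset.Quotient (A : Set G) (B : Set G) // Good A B ξ ξ' i.out},
      i.1 ∈ ({DoubleCoset.mk A B g₀, DoubleCoset.mk A B g₁} : Set _) := by
    rintro ⟨i, hi⟩
    rcases h _ hi with h1 | h1
    · exact Or.inl (eq_mk h1)
    · exact Or.inr (eq_mk h1)
  let S : Set (DoubleCoset.Quotient (A : Set G) (B : Set G)) := {DoubleCoset.mk A B g₀, DoubleCoset.mk A B g₁}
  have h2 : Nat.card {i : DoubleCoset.Quotient (A : Set G) (B : Set G) // Good A B ξ ξ' i.out} ≤ Nat.card S :=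
    Nat.card_le_card_of_injective (fun i => (⟨i.1, h1 i⟩ : S)) fun i j e => Subtype.ext (congrArg (fun x : S => x.1) e)
  refine h2.trans ?_
  rw [Nat.card_coe_set_eq]
  refine (Set.ncard_insert_le _ _).trans ?_
  rw [Set.ncard_singleton]

/-- exactly one good double coset -/
theorem inner_eq_one {A B : Subgroup G} {ξ : A →* ℂˣ} {ξ' : B →* ℂˣ} {g₁ : G} (hg : Good A B ξ ξ' g₁)
    (h : ∀ g, Good A B ξ ξ' g → ∃ a ∈ A, ∃ b ∈ B, g = a * g₁ * b) :
    classInner (indFun A fun x => (ξ x : ℂ)) (indFun B fun x => (ξ' x : ℂ)) = 1 := by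
  classical
  rw [mackey_dc]
  have h1 : Good A B ξ ξ' (DoubleCoset.mk A B g₁).out := by
    obtain ⟨a, b, ha, hb, e⟩ := DoubleCoset.mk_out_eq_mul A B g₁
    rw [e]
    exact (good_mul_iff (⟨a, ha⟩ : A) (⟨b, hb⟩ : B)).2 hg
  have h2 : ∀ i : {i : DoubleCoset.Quotient (A : Set G) (B : Set G) // Good A B ξ ξ' i.out},
      i = ⟨DoubleCoset.mk A B g₁, h1⟩ := by
    rintro ⟨i, hi⟩
    exact Subtype.ext (eq_mk (h _ hi))
  have h3 : Nat.card {i : DoubleCoset.Quotient (A : Set G) (B : Set G) // Good A B ξ ξ' i.out} = 1 := by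
    rw [Nat.card_eq_one_iff_unique]
    exact ⟨⟨fun a b => by rw [h2 a, h2 b]⟩, ⟨⟨_, h1⟩⟩⟩
  rw [h3, Nat.cast_one]

/-- the principal character is not a constituent of a character induced from a nontrivial linear character -/
theorem inner_one {H : Subgroup G} {ξ : H →* ℂˣ} (h : ∃ x, ξ x ≠ 1) :
    classInner (indFun H fun x => (ξ x : ℂ)) 1 = 0 := by
  classical
  have := Fintype.ofFinite H
  rw [S0150.classInner_indFun H _ _ (fun g x => rfl)]
  have h1 : classInner (fun x => (ξ x : ℂ)) (fun x : H => (1 : G → ℂ) x) = 0 := by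
    refine Core.classInner_irr_ne (Linear.isIrrCharacter_hom ξ) Core.isIrr_one fun h2 => ?_
    obtain ⟨x, hx⟩ := h
    apply hx
    apply Units.ext
    have := congrFun h2 x
    simpa using this
  exact h1

end mackey

section Psi

variable [Fintype G]

/-- the character induced from the sign character of `N(V)` -/
noncomputable def Psi (V : Subgroup G) : G → ℂ := indFun (Subgroup.normalizer (V : Set G)) fun x => (cu (sg V) x : ℂ)

theorem extendByZero_sg (V : Subgroup G) (g : G) [Decidable (g ∈ Subgroup.normalizer (V : Set G))] :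
    extendByZero (Subgroup.normalizer (V : Set G)) (fun x => (cu (sg V) x : ℂ)) g =
      if g ∈ Subgroup.normalizer (V : Set G) then ((sv V g : ℤ) : ℂ) else 0 := by
  split_ifs with h
  · rw [Core.extendByZero_of_mem _ _ h, cu_apply, sv_eq h]
  · rw [Core.extendByZero_of_notMem _ _ h]

theorem mem_normalizer_map_iff {V : Subgroup G} {a : MulAut G} {g : G} :
    a g ∈ Subgroup.normalizer ((V.map a.toMonoidHom : Subgroup G) : Set G) ↔ g ∈ Subgroup.normalizer (V : Set G) := by
  refine ⟨fun h1 => ?_, mem_normalizer_map⟩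
  have h2 := mem_normalizer_map (a := a.symm) h1
  have h3 : (V.map a.toMonoidHom).map (MulEquiv.toMonoidHom (a.symm : G ≃* G)) = V := by
    rw [Subgroup.map_map]
    convert Subgroup.map_id V
    ext x
    exact a.symm_apply_apply x
  rw [h3, MulEquiv.symm_apply_apply] at h2
  exact h2

theorem Psi_map (V : Subgroup G) (a : MulAut G) (s : G) : Psi (V.map a.toMonoidHom) (a s) = Psi V s := by
  classical
  unfold Psi
  rw [Core.indFun_apply, Core.indFun_apply]
  have h1 : Nat.card (Subgroup.normalizer ((V.map a.toMonoidHom : Subgroup G) : Set G)) =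
      Nat.card (Subgroup.normalizer (V : Set G)) := by
    refine (Nat.card_congr ((a.toEquiv.subtypeEquiv fun g => ?_))).symm
    exact mem_normalizer_map_iff.symm
  rw [h1]
  congr 1
  refine (Fintype.sum_equiv a.toEquiv _ _ fun x => ?_).symm
  rw [extendByZero_sg, extendByZero_sg]
  have e : (a.toEquiv x)⁻¹ * a s * a.toEquiv x = a (x⁻¹ * s * x) := by
    rw [map_mul, map_mul, map_inv]
    rfl
  rw [e, sv_map]
  simp only [mem_normalizer_map_iff]

theorem Psi_conj (V : Subgroup G) (k s : G) : Psi (V.map (MulAut.conj k).toMonoidHom) s = Psi V s := by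
  have h1 := Psi_map V (MulAut.conj k) s
  rw [← h1]
  have h2 : IsClassFunction G (Psi (V.map (MulAut.conj k).toMonoidHom)) :=
    Core.isCharacter_isClassFunction (ind_isCharacter _ _)
  exact (h2 s k).symm

/-- invariance under automorphisms mapping `V` to a conjugate -/
theorem Psi_aut {V : Subgroup G} {a : MulAut G} {k : G} (h : V.map a.toMonoidHom = V.map (MulAut.conj k).toMonoidHom)
    (s : G) : Psi V (a s) = Psi V s := by
  rw [← Psi_map V a s, h, Psi_conj]

end Psi

end Cfsg.Agent.H798.Oc.Ind
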